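import Cfsg.Agent.Lib.TCX.Suz.Defs

set_option autoImplicit false
set_option maxRecDepth 100000
set_option Elab.async false

namespace Cfsg.Agent.TCX.Suz

theorem c0 : l0c 0 0 31 = 0 := by decide +kernel
theorem c1 : l0c 1 0 31 = 0 := by decide +kernel
theorem c2 : l0c 2 0 31 = 0 := by decide +kernel
theorem c3 : l0c 3 0 31 = 0 := by decide +kernel
theorem c4 : l0c 4 0 31 = 0 := by decide +kernel
theorem c5 : l0c 5 0 31 = 0 := by decide +kernel
theorem c6 : l0c 6 0 31 = 0 := by decide +kernel
theorem c7 : l0c 7 0 31 = 0 := by decide +kernel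
theorem c8 : l0m 1782 3452 = 0 := by decide +kernel
theorem c9 : orR l1f 0 8 = 0 := by decide +kernel
theorem c10 : l1m 416 279 = 0 := by decide +kernel
theorem c11 : orR l2f 0 8 = 0 := by decide +kernel
theorem c12 : l2m 280 111 = 0 := by decide +kernel
theorem c13 : orR l3f 0 8 = 0 := by decide +kernel
theorem c14 : l3m 216 440 = 0 := by decide +kernel
theorem c15 : orR l4f 0 8 = 0 := by decide +kernel
theorem c16 : l4m 10 0 = 0 := by decide +kernel

end Cfsg.Agent.TCX.Suz
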