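import Cfsg.Agent.Lib.TCX.Suz.D0

set_option autoImplicit false
set_option maxRecDepth 100000
set_option Elab.async false

namespace Cfsg.Agent.TCX.Suz

noncomputable def l0r0 : Bt Ru := (.node (.node (.node (.node (.leaf ⟨[6,0,6],0,0⟩) (.leaf ⟨[2,0,2],20,0⟩)) (.node (.leaf ⟨[3,0,3],23,0⟩) (.leaf ⟨[5,2,1,0,5,2,1,0,5,2,1,0,5,2,1,0,5,2,1],32,19⟩))) (.node (.node (.leaf ⟨[0],11,0⟩) (.leaf ⟨[3,2,3,2,3,2,3,2],27,0⟩)) (.node (.leaf ⟨[4,0,4],21,0⟩) (.leaf ⟨[0],11,0⟩)))) (.node (.node (.node (.leaf ⟨[5,0,5],6,0⟩) (.leaf ⟨[2,3,2,3,2,3,2,3],30,8⟩)) (.node (.leaf ⟨[5,6,5,6],26,4⟩) (.leaf ⟨[0],11,0⟩))) (.node (.node (.leaf ⟨[1,2,5,0,1,2,5,0,1,2,5,0,1,2,5,0,1,2,5],24,0⟩) (.leaf ⟨[1,0,1,0,1,0,1,0,1],31,0⟩)) (.node (.leaf ⟨[6,5,6,5],4,0⟩)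 (.leaf ⟨[0],11,0⟩)))))
noncomputable def l0r1 : Bt Ru := (.node (.node (.node (.node (.leaf ⟨[1],7,0⟩) (.leaf ⟨[2,5,0,1,2,5,0,1,2,5,0,1,2,5,0,1,2,5,0],24,17⟩)) (.node (.leaf ⟨[6,1,6,1,6],10,5⟩) (.leaf ⟨[1],7,0⟩))) (.node (.node (.leaf ⟨[3,1,3],8,3⟩) (.leaf ⟨[1],7,0⟩)) (.node (.leaf ⟨[5,1,5,1,5],25,5⟩) (.leaf ⟨[1],7,0⟩)))) (.node (.node (.node (.leaf ⟨[2,1,2,1,2],16,5⟩) (.leaf ⟨[0,5,2,1,0,5,2,1,0,5,2,1,0,5,2,1,0,5,2],32,18⟩)) (.node (.leaf ⟨[6,5,1,6,5,1,6,5,1,6,5,1,6,5],29,14⟩) (.leaf ⟨[1],7,0⟩))) (.node (.node (.leaf ⟨[4,1,4],9,3⟩) (.leaf ⟨[1],7,0⟩)) (.node (.leaf ⟨[0,1,0,1,0,1,0,1,0],31,9⟩) (.leaf ⟨[1],7,0⟩)))))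
noncomputable def l0r2 : Bt Ru := (.node (.node (.node (.node (.leaf ⟨[6,2,6],1,0⟩) (.leaf ⟨[1,0,5,2,1,0,5,2,1,0,5,2,1,0,5,2,1,0,5],32,17⟩)) (.node (.leaf ⟨[1,2,1,2,1],16,0⟩) (.leaf ⟨[2],12,0⟩))) (.node (.node (.leaf ⟨[5,2,5],18,0⟩) (.leaf ⟨[5,0,1,2,5,0,1,2,5,0,1,2,5,0,1,2,5,0,1],24,18⟩)) (.node (.leaf ⟨[3,2,0,3,2,3,2,3],27,6⟩) (.leaf ⟨[2],12,0⟩)))) (.node (.node (.node (.leaf ⟨[2],12,0⟩) (.leaf ⟨[3,2,1,4,3,2,3,2,1,3,2,3,2,1,3,2,3,2,1,3,2,3,2,1,3,2,3,2,1,4,3,2,3,2,1,3,2,3,2,1,3,2,3,2,1,3,2,3,2,1,3,2,3,2,1,4,3,2,3,2,1,3,2,3,2,1,3,2,3,2,1,3,2,3,2,1,3],34,74⟩)) (.node (.leaf ⟨[4,2,4],17,0⟩) (.leaf ⟨[2],12,0⟩))) (.node (.node (.leaf ⟨[0,2,0],20,3⟩) (.leaf ⟨[2],12,0⟩)) (.node (.leaf ⟨[3,2,3,2,0,3,2,3],27,4⟩) (.leaf ⟨[2],12,0⟩)))))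
noncomputable def l0r3 : Bt Ru := (.node (.node (.node (.node (.leaf ⟨[6,3,6],2,0⟩) (.leaf ⟨[2,0,3,2,3,2,3,2],27,7⟩)) (.node (.leaf ⟨[0,3,0],23,3⟩) (.leaf ⟨[0,2,3,2,3,2,3,2],30,7⟩))) (.node (.node (.leaf ⟨[5,3,5],13,0⟩) (.leaf ⟨[2,3,2,1,4,3,2,3,2,1,3,2,3,2,1,3,2,3,2,1,3,2,3,2,1,3,2,3,2,1,4,3,2,3,2,1,3,2,3,2,1,3,2,3,2,1,3,2,3,2,1,3,2,3,2,1,4,3,2,3,2,1,3,2,3,2,1,3,2,3,2,1,3,2,3,2,1],34,73⟩)) (.node (.leaf ⟨[4,3,4,3,4],28,0⟩) (.leaf ⟨[3],19,0⟩)))) (.node (.node (.node (.leaf ⟨[1,3,1],8,0⟩) (.leaf ⟨[1,2,3,2,3,1,2,3,2,3,1,2,3,2,3,1,2,3,2,3,4,1,2,3,2,3,1,2,3,2,3,1,2,3,2,3,1,2,3,2,3,1,2,3,2,3,4,1,2,3,2,3,1,2,3,2,3,1,2,3,2,3,1,2,3,2,3,1,2,3,2,3,4,1,2,3,2],33,56⟩)) (.node (.leaf ⟨[2,3,2,3,2,3,2,0],27,1⟩) (.leaf ⟨[3],19,0⟩))) (.node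 (.node (.leaf ⟨[3],19,0⟩) (.leaf ⟨[2,1,4,3,2,3,2,1,3,2,3,2,1,3,2,3,2,1,3,2,3,2,1,3,2,3,2,1,4,3,2,3,2,1,3,2,3,2,1,3,2,3,2,1,3,2,3,2,1,3,2,3,2,1,4,3,2,3,2,1,3,2,3,2,1,3,2,3,2,1,3,2,3,2,1,3,2],34,75⟩)) (.node (.leaf ⟨[2,3,2,0,3,2,3,2],27,5⟩) (.leaf ⟨[3],19,0⟩)))))
noncomputable def l0r4 : Bt Ru := (.node (.node (.node (.leaf ⟨[6,4,6],3,0⟩) (.leaf ⟨[0,4,0],21,3⟩)) (.node (.leaf ⟨[5,4,5],14,0⟩) (.leaf ⟨[3,4,3,4,3],28,5⟩))) (.node (.node (.leaf ⟨[1,4,1],9,0⟩) (.leaf ⟨[4],22,0⟩)) (.node (.leaf ⟨[2,4,2],17,3⟩) (.leaf ⟨[4],22,0⟩))))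
noncomputable def l0r5 : Bt Ru := (.node (.node (.node (.node (.leaf ⟨[6,5,0,6],4,2⟩) (.leaf ⟨[6,5,6,0],26,0⟩)) (.node (.leaf ⟨[0,5,0],6,3⟩) (.leaf ⟨[6,1,5,6,1,5,6,1,5,6,1,5,6,1],35,13⟩))) (.node (.node (.leaf ⟨[1,5,1,5,1],25,0⟩) (.leaf ⟨[1,6,5,1,6,5,1,6,5,1,6,5,1,6],29,13⟩)) (.node (.leaf ⟨[4,5,4],14,3⟩) (.leaf ⟨[5],15,0⟩)))) (.node (.node (.node (.leaf ⟨[5],15,0⟩) (.leaf ⟨[0,1,2,5,0,1,2,5,0,1,2,5,0,1,2,5,0,1,2],24,19⟩)) (.node (.leaf ⟨[2,5,2],18,3⟩) (.leaf ⟨[5],15,0⟩))) (.node (.node (.leaf ⟨[3,5,3],13,3⟩) (.leaf ⟨[2,1,0,5,2,1,0,5,2,1,0,5,2,1,0,5,2,1,0],32,0⟩)) (.node (.leaf ⟨[0,6,5,6],4,4⟩) (.leaf ⟨[5],15,0⟩)))))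
noncomputable def l0r6 : Bt Ru := (.node (.node (.node (.node (.leaf ⟨[6],5,0⟩) (.leaf ⟨[1,5,6,1,5,6,1,5,6,1,5,6,1,5],35,14⟩)) (.node (.leaf ⟨[3,6,3],2,3⟩) (.leaf ⟨[6],5,0⟩))) (.node (.node (.leaf ⟨[0,6,0],0,3⟩) (.leaf ⟨[0,5,6,5],26,3⟩)) (.node (.leaf ⟨[5,6,5,0],4,1⟩) (.leaf ⟨[6],5,0⟩)))) (.node (.node (.node (.leaf ⟨[1,6,1,6,1],10,0⟩) (.leaf ⟨[5,0,6,5],4,3⟩)) (.node (.leaf ⟨[4,6,4],3,3⟩) (.leaf ⟨[6],5,0⟩))) (.node (.node (.leaf ⟨[2,6,2],1,3⟩) (.leaf ⟨[5,1,6,5,1,6,5,1,6,5,1,6,5,1],29,0⟩)) (.node (.leaf ⟨[5,6,0,5],26,1⟩) (.leaf ⟨[6],5,0⟩)))))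
noncomputable def l0r7 : Bt Ru := (.node (.node (.node (.node (.node (.leaf ⟨[1,5,1,5,1,5],25,5⟩) (.leaf ⟨[1,2,1,2,1,2],16,5⟩)) (.node (.leaf ⟨[2,6,2,6],1,0⟩) (.leaf ⟨[1,0,5,2,1,0,5,2,1,0,5,2,1,0,5,2,1,0,5,2],32,18⟩))) (.node (.node (.leaf ⟨[4,1,4,1],9,0⟩) (.leaf ⟨[1,4,1,4],9,3⟩)) (.node (.leaf ⟨[5,1,5,1,5,1],25,0⟩) (.leaf ⟨[0,0],11,0⟩)))) (.node (.node (.node (.leaf ⟨[6,3,6,3],2,3⟩) (.leaf ⟨[3,4,3,4,3,4],28,0⟩)) (.node (.leaf ⟨[3,2,3,2,3,2,3,0,2],30,1⟩) (.leaf ⟨[0,0],11,0⟩))) (.node (.node (.leaf ⟨[5,6,1,5,6,1,5,6,1,5,6,1,5,6,1],35,13⟩) (.leaf ⟨[0,2,3,2,3,2,3,2,3],30,8⟩)) (.node (.leaf ⟨[1,6,1,6,1,6],10,5⟩) (.leaf ⟨[0,0],11,0⟩))))) (.node (.node (.node (.node (.leaf ⟨[6,4,6,4],3,3⟩) (.leaf ⟨[1,0,1,0,1,0,1,0,1,0],31,9⟩))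 (.node (.leaf ⟨[2,3,2,3,2,0,3,2,3],27,4⟩) (.leaf ⟨[0,0],11,0⟩))) (.node (.node (.leaf ⟨[2,5,0,1,2,5,0,1,2,5,0,1,2,5,0,1,2,5,0,1],24,18⟩) (.leaf ⟨[0,6,0,6],0,0⟩)) (.node (.leaf ⟨[5,1,6,5,1,6,5,1,6,5,1,6,5,1,6],29,13⟩) (.leaf ⟨[0,0],11,0⟩)))) (.node (.node (.node (.leaf ⟨[2,5,2,5],18,0⟩) (.leaf ⟨[3,6,3,6],2,0⟩)) (.node (.leaf ⟨[2,3,2,3,2,3,2,0,3],27,2⟩) (.leaf ⟨[0,0],11,0⟩))) (.node (.node (.leaf ⟨[0,2,0,2],20,0⟩) (.leaf ⟨[1,6,5,1,6,5,1,6,5,1,6,5,1,6,5],29,14⟩)) (.node (.leaf ⟨[0,1,0,1,0,1,0,1,0,1],31,0⟩) (.leaf ⟨[0,0],11,0⟩))))))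
noncomputable def l1r0 : Bt Ru := (.node (.node (.node (.leaf ⟨[5,0,5],6,0⟩) (.leaf ⟨[2,0,2],20,0⟩)) (.node (.leaf ⟨[1,0,1,0,1,0,1,0,1],31,0⟩) (.leaf ⟨[2,3,2,3,2,3,2,3],30,8⟩))) (.node (.node (.leaf ⟨[0],11,0⟩) (.leaf ⟨[4,0,4],21,0⟩)) (.node (.leaf ⟨[3,0,3],23,0⟩) (.leaf ⟨[0],11,0⟩))))
noncomputable def l1r1 : Bt Ru := (.node (.node (.node (.leaf ⟨[1],7,0⟩) (.leaf ⟨[4,1,4],9,3⟩)) (.node (.leaf ⟨[5,1,5,1,5],25,5⟩) (.leaf ⟨[1],7,0⟩))) (.node (.node (.leaf ⟨[2,1,2,1,2],16,5⟩) (.leaf ⟨[0,1,0,1,0,1,0,1,0],31,9⟩)) (.node (.leaf ⟨[3,1,3],8,3⟩) (.leaf ⟨[1],7,0⟩))))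
noncomputable def l1r2 : Bt Ru := (.node (.node (.node (.leaf ⟨[5,2,5],18,0⟩) (.leaf ⟨[0,2,0],20,3⟩)) (.node (.leaf ⟨[1,2,1,2,1],16,0⟩) (.leaf ⟨[5,0,1,2,5,0,1,2,5,0,1,2,5,0,1,2,5,0,1],24,18⟩))) (.node (.node (.leaf ⟨[2],12,0⟩) (.leaf ⟨[3,2,0,3,2,3,2,3],27,6⟩)) (.node (.leaf ⟨[4,2,4],17,0⟩) (.leaf ⟨[2],12,0⟩))))
noncomputable def l1r3 : Bt Ru := (.node (.node (.node (.leaf ⟨[5,3,5],13,0⟩) (.leaf ⟨[4,3,4,3,4],28,0⟩)) (.node (.leaf ⟨[0,3,0],23,3⟩) (.leaf ⟨[2,3,1,2,3,2,3,1,2,3,2,3,4,1,2,3,2,3,1,2,3,2,3,1,2,3,2,3,1,2,3,2,3,1,2,3,2,3,4,1,2,3,2,3,1,2,3,2,3,1,2,3,2,3,1,2,3,2,3,1,2,3,2,3,4,1,2,3,2,3,1,2,3,2,3,1,2],33,64⟩))) (.node (.node (.leaf ⟨[1,3,1],8,0⟩) (.leaf ⟨[2,0,3,2,3,2,3,2],27,7⟩)) (.node (.leaf ⟨[3],19,0⟩) (.leaf ⟨[3],19,0⟩))))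
noncomputable def l1r4 : Bt Ru := (.node (.node (.node (.leaf ⟨[5,4,5],14,0⟩) (.leaf ⟨[4],22,0⟩)) (.node (.leaf ⟨[0,4,0],21,3⟩) (.leaf ⟨[4],22,0⟩))) (.node (.node (.leaf ⟨[1,4,1],9,0⟩) (.leaf ⟨[3,4,3,4,3],28,5⟩)) (.node (.leaf ⟨[2,4,2],17,3⟩) (.leaf ⟨[4],22,0⟩))))
noncomputable def l1r5 : Bt Ru := (.node (.node (.node (.leaf ⟨[5],15,0⟩) (.leaf ⟨[4,5,4],14,3⟩)) (.node (.leaf ⟨[2,5,2],18,3⟩) (.leaf ⟨[0,1,2,5,0,1,2,5,0,1,2,5,0,1,2,5,0,1,2],24,19⟩))) (.node (.node (.leaf ⟨[1,5,1,5,1],25,0⟩) (.leaf ⟨[0,5,0],6,3⟩)) (.node (.leaf ⟨[3,5,3],13,3⟩) (.leaf ⟨[5],15,0⟩))))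
noncomputable def l1r6 : Bt Ru := (.leaf ⟨[6],5,0⟩)
noncomputable def l1r7 : Bt Ru := (.node (.node (.node (.node (.leaf ⟨[5,0,5,0],6,3⟩) (.leaf ⟨[2,0,2,0],20,3⟩)) (.node (.leaf ⟨[4,1,4,1],9,0⟩) (.leaf ⟨[1,5,1,5,1,5],25,5⟩))) (.node (.node (.leaf ⟨[2,5,2,5],18,0⟩) (.leaf ⟨[2,1,0,5,2,1,0,5,2,1,0,5,2,1,0,5,2,1,0,5],32,17⟩)) (.node (.leaf ⟨[2,3,2,3,2,3,2,3,0],30,0⟩) (.leaf ⟨[0,0],11,0⟩)))) (.node (.node (.node (.leaf ⟨[0,2,0,2],20,0⟩) (.leaf ⟨[3,0,2,3,2,3,2,3,2],30,7⟩)) (.node (.leaf ⟨[3,1,3,1],8,0⟩) (.leaf ⟨[0,0],11,0⟩))) (.node (.node (.leaf ⟨[2,3,2,3,2,0,3,2,3],27,4⟩) (.leaf ⟨[2,1,2,1,2,1],16,0⟩)) (.node (.leaf ⟨[1,4,1,4],9,3⟩) (.leaf ⟨[0,0],11,0⟩)))))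
noncomputable def l2r0 : Bt Ru := (.node (.node (.node (.leaf ⟨[4,0,4],21,0⟩) (.leaf ⟨[0],11,0⟩)) (.node (.leaf ⟨[2,0,2],20,0⟩) (.leaf ⟨[1,0,1,0,1,0,1,0,1],31,0⟩))) (.node (.node (.leaf ⟨[3,0,3],23,0⟩) (.leaf ⟨[3,2,3,2,3,2,3,2],27,0⟩)) (.node (.leaf ⟨[2,3,2,3,2,3,2,3],30,8⟩) (.leaf ⟨[0],11,0⟩))))
noncomputable def l2r1 : Bt Ru := (.node (.node (.node (.leaf ⟨[4,1,4],9,3⟩) (.leaf ⟨[0,1,0,1,0,1,0,1,0],31,9⟩)) (.node (.leaf ⟨[1],7,0⟩) (.leaf ⟨[1],7,0⟩))) (.node (.node (.leaf ⟨[3,1,3],8,3⟩) (.leaf ⟨[2,3,2,3,1,2,3,2,3,1,2,3,2,3,1,2,3,2,3,4,1,2,3,2,3,1,2,3,2,3,1,2,3,2,3,1,2,3,2,3,1,2,3,2,3,4,1,2,3,2,3,1,2,3,2,3,1,2,3,2,3,1,2,3,2,3,1,2,3,2,3,4,1,2,3,2,3],33,57⟩)) (.node (.leaf ⟨[2,1,2,1,2],16,5⟩) (.leaf ⟨[1],7,0⟩))))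
noncomputable def l2r2 : Bt Ru := (.node (.node (.node (.leaf ⟨[4,2,4],17,0⟩) (.leaf ⟨[3,2,0,3,2,3,2,3],27,6⟩)) (.node (.leaf ⟨[1,2,1,2,1],16,0⟩) (.leaf ⟨[2],12,0⟩))) (.node (.node (.leaf ⟨[2],12,0⟩) (.leaf ⟨[2],12,0⟩)) (.node (.leaf ⟨[0,2,0],20,3⟩) (.leaf ⟨[2],12,0⟩))))
noncomputable def l2r3 : Bt Ru := (.node (.node (.node (.leaf ⟨[3],19,0⟩) (.leaf ⟨[2,3,2,3,2,3,2,0],27,1⟩)) (.node (.leaf ⟨[1,3,1],8,0⟩) (.leaf ⟨[2,3,2,0,3,2,3,2],27,5⟩))) (.node (.node (.leaf ⟨[0,3,0],23,3⟩) (.leaf ⟨[2,0,3,2,3,2,3,2],27,7⟩)) (.node (.leaf ⟨[4,3,4,3,4],28,0⟩) (.leaf ⟨[3],19,0⟩))))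
noncomputable def l2r4 : Bt Ru := (.node (.node (.node (.leaf ⟨[4],22,0⟩) (.leaf ⟨[0,4,0],21,3⟩)) (.node (.leaf ⟨[2,4,2],17,3⟩) (.leaf ⟨[4],22,0⟩))) (.node (.node (.leaf ⟨[3,4,3,4,3],28,5⟩) (.leaf ⟨[4],22,0⟩)) (.node (.leaf ⟨[1,4,1],9,0⟩) (.leaf ⟨[4],22,0⟩))))
noncomputable def l2r5 : Bt Ru := (.leaf ⟨[5],15,0⟩)
noncomputable def l2r6 : Bt Ru := (.leaf ⟨[6],5,0⟩)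
noncomputable def l2r7 : Bt Ru := (.node (.node (.node (.leaf ⟨[2,3,2,0,3,2,3,2,3],27,6⟩) (.leaf ⟨[1,3,2,3,2,1,4,3,2,3,2,1,3,2,3,2,1,3,2,3,2,1,3,2,3,2,1,3,2,3,2,1,4,3,2,3,2,1,3,2,3,2,1,3,2,3,2,1,3,2,3,2,1,3,2,3,2,1,4,3,2,3,2,1,3,2,3,2,1,3,2,3,2,1,3,2,3,2],34,72⟩)) (.node (.leaf ⟨[1,3,1,3],8,3⟩) (.leaf ⟨[0,0],11,0⟩))) (.node (.node (.leaf ⟨[2,1,2,1,2,1],16,0⟩) (.leaf ⟨[1,0,1,0,1,0,1,0,1,0],31,9⟩)) (.node (.leaf ⟨[3,4,3,4,3,4],28,0⟩) (.leaf ⟨[0,0],11,0⟩))))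
noncomputable def l3r0 : Bt Ru := (.node (.node (.node (.leaf ⟨[2,0,2],20,0⟩) (.leaf ⟨[1,0,1,0,1,0,1,0,1],31,0⟩)) (.node (.leaf ⟨[0],11,0⟩) (.leaf ⟨[0],11,0⟩))) (.node (.node (.leaf ⟨[3,0,3],23,0⟩) (.leaf ⟨[0],11,0⟩)) (.node (.leaf ⟨[2,3,2,3,2,3,2,3],30,8⟩) (.leaf ⟨[0],11,0⟩))))
noncomputable def l3r1 : Bt Ru := (.node (.node (.leaf ⟨[3,1,3],8,3⟩) (.leaf ⟨[0,1,0,1,0,1,0,1,0],31,9⟩)) (.node (.leaf ⟨[1],7,0⟩) (.leaf ⟨[2,1,2,1,2],16,5⟩)))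
noncomputable def l3r2 : Bt Ru := (.node (.node (.node (.leaf ⟨[2],12,0⟩) (.leaf ⟨[3,2,0,3,2,3,2,3],27,6⟩)) (.node (.leaf ⟨[3,2,3,2,3,2,0,3],27,2⟩) (.leaf ⟨[2],12,0⟩))) (.node (.node (.leaf ⟨[1,2,1,2,1],16,0⟩) (.leaf ⟨[0,3,2,3,2,3,2,3],27,8⟩)) (.node (.leaf ⟨[0,2,0],20,3⟩) (.leaf ⟨[2],12,0⟩))))
noncomputable def l3r3 : Bt Ru := (.node (.node (.node (.leaf ⟨[3],19,0⟩) (.leaf ⟨[2,0,3,2,3,2,3,2],27,7⟩)) (.node (.leaf ⟨[2,3,2,0,3,2,3,2],27,5⟩) (.leaf ⟨[2,3,2,3,2,0,3,2],27,3⟩))) (.node (.node (.leaf ⟨[1,3,1],8,0⟩) (.leaf ⟨[0,2,3,2,3,2,3,2],30,7⟩)) (.node (.leaf ⟨[0,3,0],23,3⟩) (.leaf ⟨[3],19,0⟩))))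
noncomputable def l3r4 : Bt Ru := (.leaf ⟨[4],22,0⟩)
noncomputable def l3r5 : Bt Ru := (.leaf ⟨[5],15,0⟩)
noncomputable def l3r6 : Bt Ru := (.leaf ⟨[6],5,0⟩)
noncomputable def l3r7 : Bt Ru := (.node (.leaf ⟨[1,0,1,0,1,0,1,0,1,0],31,9⟩) (.leaf ⟨[1,2,1,2,1,2],16,5⟩))
noncomputable def l4r0 : Bt Ru := (.node (.leaf ⟨[0],11,0⟩) (.leaf ⟨[1,0,1,0,1,0,1,0,1],31,0⟩))
noncomputable def l4r1 : Bt Ru := (.leaf ⟨[1],7,0⟩)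
noncomputable def l4r2 : Bt Ru := (.leaf ⟨[2],12,0⟩)
noncomputable def l4r3 : Bt Ru := (.leaf ⟨[3],19,0⟩)
noncomputable def l4r4 : Bt Ru := (.leaf ⟨[4],22,0⟩)
noncomputable def l4r5 : Bt Ru := (.leaf ⟨[5],15,0⟩)
noncomputable def l4r6 : Bt Ru := (.leaf ⟨[6],5,0⟩)
noncomputable def l4r7 : Bt Ru := (.leaf ⟨[0,0],11,0⟩)
noncomputable def l0T : List (Bt Nat) := [l0t0, l0t1, l0t2, l0t3, l0t4, l0t5, l0t6, l0t7, l0t8]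
noncomputable def l0R : List (Bt Ru) := [l0r0, l0r1, l0r2, l0r3, l0r4, l0r5, l0r6, l0r7]
noncomputable def l0c (a lo cnt : Nat) : Nat := chk (gT l0T (nat_lit 14)) (rT l0R) (nat_lit 14) (nat_lit 0x7ffc0) (nat_lit 0x7c000) (nat_lit 0x3fc0) (nat_lit 7) (nat_lit 19) (nat_lit 8191) (nat_lit 0x80000000ffffffff) (nat_lit 27) (nat_lit 52) (nat_lit 63) (nat_lit 0x55c40) a (nfOf [0,1,2,3,4,5,6] 1782 a) lo cnt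
noncomputable def l0f (a : Nat) : Nat := l0c a 0 31
noncomputable def l0m (lo cnt : Nat) : Nat := chkM (gT l0T (nat_lit 14)) (nat_lit 14) (nat_lit 0x7ffc0) (nat_lit 0x7c000) (nat_lit 0x3fc0) (nat_lit 7) lo cnt
noncomputable def l1T : List (Bt Nat) := [l1t0, l1t1, l1t2, l1t3, l1t4, l1t5, (.leaf (nat_lit 0)), l1t7, l1t8]
noncomputable def l1R : List (Bt Ru) := [l1r0, l1r1, l1r2, l1r3, l1r4, l1r5, l1r6, l1r7]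
noncomputable def l1c (a lo cnt : Nat) : Nat := chk (gT l1T (nat_lit 14)) (rT l1R) (nat_lit 14) (nat_lit 0xffc0) (nat_lit 0xc000) (nat_lit 0x3fc0) (nat_lit 7) (nat_lit 16) (nat_lit 1023) (nat_lit 0x8000000003ffffff) (nat_lit 15) (nat_lit 28) (nat_lit 31) (nat_lit 0xed80) a (nfOf [0,1,2,3,4,5] 416 a) lo cnt
noncomputable def l1f (a : Nat) : Nat := l1c a 0 3
noncomputable def l1m (lo cnt : Nat) : Nat := chkM (gT l1T (nat_lit 14)) (nat_lit 14) (nat_lit 0xffc0) (nat_lit 0xc000) (nat_lit 0x3fc0) (nat_lit 7) lo cnt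
noncomputable def l2T : List (Bt Nat) := [l2t0, l2t1, l2t2, l2t3, l2t4, (.leaf (nat_lit 0)), (.leaf (nat_lit 0)), l2t7, l2t8]
noncomputable def l2R : List (Bt Ru) := [l2r0, l2r1, l2r2, l2r3, l2r4, l2r5, l2r6, l2r7]
noncomputable def l2c (a lo cnt : Nat) : Nat := chk (gT l2T (nat_lit 14)) (rT l2R) (nat_lit 14) (nat_lit 0xffc0) (nat_lit 0xc000) (nat_lit 0x3fc0) (nat_lit 7) (nat_lit 16) (nat_lit 1023) (nat_lit 0x8000000003ffffff) (nat_lit 9) (nat_lit 16) (nat_lit 15) (nat_lit 0xa180) a (nfOf [0,1,2,3,4] 280 a) lo cnt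
noncomputable def l2f (a : Nat) : Nat := l2c a 0 3
noncomputable def l2m (lo cnt : Nat) : Nat := chkM (gT l2T (nat_lit 14)) (nat_lit 14) (nat_lit 0xffc0) (nat_lit 0xc000) (nat_lit 0x3fc0) (nat_lit 7) lo cnt
noncomputable def l3T : List (Bt Nat) := [l3t0, l3t1, l3t2, l3t3, (.leaf (nat_lit 0)), (.leaf (nat_lit 0)), (.leaf (nat_lit 0)), l3t7, l3t8]
noncomputable def l3R : List (Bt Ru) := [l3r0, l3r1, l3r2, l3r3, l3r4, l3r5, l3r6, l3r7]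
noncomputable def l3c (a lo cnt : Nat) : Nat := chk (gT l3T (nat_lit 14)) (rT l3R) (nat_lit 14) (nat_lit 0x1ffc0) (nat_lit 0x1c000) (nat_lit 0x3fc0) (nat_lit 7) (nat_lit 17) (nat_lit 2047) (nat_lit 0x800000000fffffff) (nat_lit 9) (nat_lit 16) (nat_lit 3) (nat_lit 0xe3c0) a (nfOf [0,1,2,3] 216 a) lo cnt
noncomputable def l3f (a : Nat) : Nat := l3c a 0 7
noncomputable def l3m (lo cnt : Nat) : Nat := chkM (gT l3T (nat_lit 14)) (nat_lit 14) (nat_lit 0x1ffc0) (nat_lit 0x1c000) (nat_lit 0x3fc0) (nat_lit 7) lo cnt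
noncomputable def l4T : List (Bt Nat) := [l4t0, l4t1, (.leaf (nat_lit 0)), (.leaf (nat_lit 0)), (.leaf (nat_lit 0)), (.leaf (nat_lit 0)), (.leaf (nat_lit 0)), (.leaf (nat_lit 0)), l4t8]
noncomputable def l4R : List (Bt Ru) := [l4r0, l4r1, l4r2, l4r3, l4r4, l4r5, l4r6, l4r7]
noncomputable def l4c (a lo cnt : Nat) : Nat := chk (gT l4T (nat_lit 14)) (rT l4R) (nat_lit 14) (nat_lit 0x7fc0) (nat_lit 0x4000) (nat_lit 0x3fc0) (nat_lit 7) (nat_lit 15) (nat_lit 511) (nat_lit 0x8000000000ffffff) (nat_lit 4) (nat_lit 6) (nat_lit 0) (nat_lit 0x4240) a (nfOf [0,1] 10 a) lo cnt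
noncomputable def l4f (a : Nat) : Nat := l4c a 0 1
noncomputable def l4m (lo cnt : Nat) : Nat := chkM (gT l4T (nat_lit 14)) (nat_lit 14) (nat_lit 0x7fc0) (nat_lit 0x4000) (nat_lit 0x3fc0) (nat_lit 7) lo cnt

end Cfsg.Agent.TCX.Suz
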