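import Cfsg.Agent.Lib.TCX.Suz.C0
import Cfsg.Agent.Lib.TCX.Cert

set_option autoImplicit false
set_option maxRecDepth 100000
set_option Elab.async false

namespace Cfsg.Agent.TCX.Suz

open Cfsg.Agent.CG

/-- The relators used. -/
noncomputable def R : List (List ℕ) := [[0,6,0,6],
  [2,6,2,6],
  [3,6,3,6],
  [4,6,4,6],
  [0,6,5,6,5],
  [6,6],
  [0,5,0,5],
  [1,1],
  [3,1,3,1],
  [4,1,4,1],
  [6,1,6,1,6,1],
  [0,0],
  [2,2],
  [3,5,3,5],
  [4,5,4,5],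
  [5,5],
  [2,1,2,1,2,1],
  [2,4,2,4],
  [2,5,2,5],
  [3,3],
  [0,2,0,2],
  [0,4,0,4],
  [4,4],
  [0,3,0,3],
  [0,1,2,5,0,1,2,5,0,1,2,5,0,1,2,5,0,1,2,5],
  [5,1,5,1,5,1],
  [5,6,5,6,0],
  [0,3,2,3,2,3,2,3,2],
  [3,4,3,4,3,4],
  [6,5,1,6,5,1,6,5,1,6,5,1,6,5,1],
  [2,3,2,3,2,3,2,3,0],
  [0,1,0,1,0,1,0,1,0,1],
  [5,2,1,0,5,2,1,0,5,2,1,0,5,2,1,0,5,2,1,0],
  [1,2,3,2,3,1,2,3,2,3,1,2,3,2,3,1,2,3,2,3,1,2,3,2,3,4,1,2,3,2,3,1,2,3,2,3,1,2,3,2,3,1,2,3,2,3,1,2,3,2,3,4,1,2,3,2,3,1,2,3,2,3,1,2,3,2,3,1,2,3,2,3,1,2,3,2,3,4],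
  [4,3,2,3,2,1,3,2,3,2,1,3,2,3,2,1,3,2,3,2,1,3,2,3,2,1,4,3,2,3,2,1,3,2,3,2,1,3,2,3,2,1,3,2,3,2,1,3,2,3,2,1,4,3,2,3,2,1,3,2,3,2,1,3,2,3,2,1,3,2,3,2,1,3,2,3,2,1],
  [1,5,6,1,5,6,1,5,6,1,5,6,1,5,6]]

noncomputable def invL : List ℕ := [0,1,2,3,4,5,6]

/-- How the relators used follow from the given ones. -/
noncomputable def hints : List (ℕ × Bool × List ℕ) := [(10,false,[]),
  (17,false,[]),
  (24,false,[]),
  (31,false,[]),
  (1,false,[]),
  (54,false,[]),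
  (9,false,[]),
  (54,false,[]),
  (25,false,[]),
  (32,false,[]),
  (46,false,[]),
  (54,false,[]),
  (54,false,[]),
  (23,false,[]),
  (30,false,[]),
  (54,false,[]),
  (18,false,[]),
  (15,false,[]),
  (16,false,[]),
  (54,false,[]),
  (6,false,[]),
  (8,false,[]),
  (54,false,[]),
  (7,false,[]),
  (2,false,[]),
  (39,false,[]),
  (1,true,[]),
  (0,false,[]),
  (22,false,[]),
  (3,true,[]),
  (0,true,[]),
  (11,false,[]),
  (2,true,[]),
  (4,false,[]),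
  (4,true,[]),
  (3,false,[])]

theorem l0g (a : ℕ) : Glue (l0c a) := fun _ _ _ => chk_append
theorem l0f0 : l0f 0 = 0 :=
  show l0c 0 0 31 = 0 from c0
theorem l0f1 : l0f 1 = 0 :=
  show l0c 1 0 31 = 0 from c1
theorem l0f2 : l0f 2 = 0 :=
  show l0c 2 0 31 = 0 from c2
theorem l0f3 : l0f 3 = 0 :=
  show l0c 3 0 31 = 0 from c3
theorem l0f4 : l0f 4 = 0 :=
  show l0c 4 0 31 = 0 from c4
theorem l0f5 : l0f 5 = 0 :=
  show l0c 5 0 31 = 0 from c5
theorem l0f6 : l0f 6 = 0 :=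
  show l0c 6 0 31 = 0 from c6
theorem l0f7 : l0f 7 = 0 :=
  show l0c 7 0 31 = 0 from c7
theorem l0all : ∀ a, a < 8 → l0f a = 0 :=
  allz_snoc (allz_snoc (allz_snoc (allz_snoc (allz_snoc (allz_snoc (allz_snoc (allz_snoc (allz_zero _) l0f0) l0f1) l0f2) l0f3) l0f4) l0f5) l0f6) l0f7
theorem l0ru : allLt (rusChk R (nat_lit 7) l0R) 8 = true := by decide +kernel
theorem l0gm : Glue l0m := fun _ _ _ => chkM_append
theorem l0mm : l0m 1782 3452 = 0 := c8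
theorem l0_ok : Idx R [0,1,2,3,4,5,6] [0,1,2,3,4,5] 1782 :=
  idx_of_chk (cm := 3452) (q := 8) (d := 5) (s2 := 32) (full := 31) (f := l0f) (by decide +kernel) (by decide +kernel) (fun _ => rfl) l0all l0ru (by decide +kernel) (by decide +kernel) l0mm

theorem l1all : ∀ a, a < 8 → l1f a = 0 :=
  allz_of_orR c9
theorem l1ru : allLt (rusChk R (nat_lit 7) l1R) 8 = true := by decide +kernel
theorem l1gm : Glue l1m := fun _ _ _ => chkM_append
theorem l1mm : l1m 416 279 = 0 := c10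
theorem l1_ok : Idx R [0,1,2,3,4,5] [0,1,2,3,4] 416 :=
  idx_of_chk (cm := 279) (q := 8) (d := 2) (s2 := 26) (full := 3) (f := l1f) (by decide +kernel) (by decide +kernel) (fun _ => rfl) l1all l1ru (by decide +kernel) (by decide +kernel) l1mm

theorem l2all : ∀ a, a < 8 → l2f a = 0 :=
  allz_of_orR c11
theorem l2ru : allLt (rusChk R (nat_lit 7) l2R) 8 = true := by decide +kernel
theorem l2gm : Glue l2m := fun _ _ _ => chkM_append
theorem l2mm : l2m 280 111 = 0 := c12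
theorem l2_ok : Idx R [0,1,2,3,4] [0,1,2,3] 280 :=
  idx_of_chk (cm := 111) (q := 8) (d := 2) (s2 := 26) (full := 3) (f := l2f) (by decide +kernel) (by decide +kernel) (fun _ => rfl) l2all l2ru (by decide +kernel) (by decide +kernel) l2mm

theorem l3all : ∀ a, a < 8 → l3f a = 0 :=
  allz_of_orR c13
theorem l3ru : allLt (rusChk R (nat_lit 7) l3R) 8 = true := by decide +kernel
theorem l3gm : Glue l3m := fun _ _ _ => chkM_append
theorem l3mm : l3m 216 440 = 0 := c14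
theorem l3_ok : Idx R [0,1,2,3] [0,1] 216 :=
  idx_of_chk (cm := 440) (q := 8) (d := 3) (s2 := 28) (full := 7) (f := l3f) (by decide +kernel) (by decide +kernel) (fun _ => rfl) l3all l3ru (by decide +kernel) (by decide +kernel) l3mm

theorem l4all : ∀ a, a < 8 → l4f a = 0 :=
  allz_of_orR c15
theorem l4ru : allLt (rusChk R (nat_lit 7) l4R) 8 = true := by decide +kernel
theorem l4gm : Glue l4m := fun _ _ _ => chkM_append
theorem l4mm : l4m 10 0 = 0 := c16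
theorem l4_ok : Idx R [0,1] [] 10 :=
  idx_of_chk (cm := 0) (q := 8) (d := 1) (s2 := 24) (full := 1) (f := l4f) (by decide +kernel) (by decide +kernel) (fun _ => rfl) l4all l4ru (by decide +kernel) (by decide +kernel) l4mm

theorem bounds : Bounds R [0,1,2,3,4,5,6] 448345497600 := fun _ _ y hR =>
  (show 1782 * (416 * (280 * (216 * (10 * (1))))) = 448345497600 by decide +kernel) ▸ l0_ok.bound hR (l1_ok.bound hR (l2_ok.bound hR (l3_ok.bound hR (l4_ok.bound hR (bound_nil y)))))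

end Cfsg.Agent.TCX.Suz
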